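import Cfsg.Agent.Lib.Lie.MultExc.SzEight.Table

/-!
The certificate at the prime 2: a polycyclic sequence of a Sylow subgroup and conjugations.
-/

set_option autoImplicit false
set_option maxRecDepth 100000
set_option maxHeartbeats 0

namespace CfsgLib.Lie.MultExc.SzEight.P2

open CfsgLib.Spor.SchurCert

/-- The Sylow elements. -/
def sw : List (List ℕ) := [
    [80, 103, 164],
    [4, 108, 163],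
    [0, 130, 160],
    [36, 146, 161],
    [30, 114, 161],
    [73, 150, 159]]

/-- The conjugating elements. -/
def gw : List (List ℕ) := [
    [46, 151, 159],
    [28, 90, 164],
    [80, 124, 159],
    [79, 90, 160],
    [53, 97, 160],
    [13, 123],
    [70, 152, 163],
    [35, 90, 164],
    [81, 112, 161],
    [41, 139, 161],
    [50, 114, 160],
    [4, 108, 163],
    [59, 126, 160],
    [56, 96, 164],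
    [6, 84, 163],
    [41, 139, 161],
    [79, 104, 161],
    [81, 112, 161],
    [78, 148],
    [53, 97, 160],
    [63, 152, 160],
    [61, 151, 163],
    [22, 106, 161],
    [41, 139, 161]]

/-- The certificate. -/
def cert : CfsgLib.Spor.SchurCert.Cert where
  p := 2
  m := 6
  N := 8
  rules := [
    ([0, 0], [3, 4, 5]),
    ([1, 1], [5]),
    ([2, 2], [4, 5]),
    ([3, 3], []),
    ([4, 4], []),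
    ([5, 5], []),
    ([1, 0], [0, 1, 4]),
    ([2, 0], [0, 2, 3, 4]),
    ([2, 1], [1, 2, 3, 4, 5]),
    ([3, 0], [0, 3]),
    ([3, 1], [1, 3]),
    ([3, 2], [2, 3]),
    ([4, 0], [0, 4]),
    ([4, 1], [1, 4]),
    ([4, 2], [2, 4]),
    ([4, 3], [3, 4]),
    ([5, 0], [0, 5]),
    ([5, 1], [1, 5]),
    ([5, 2], [2, 5]),
    ([5, 3], [3, 5]),
    ([5, 4], [4, 5])]
  maps := [
    [([0], [0, 1, 2, 5]), ([1], [0, 2]), ([2], [0, 5]), ([3], [5]), ([4], [3, 5]), ([5], [4])],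
    [([0], [0, 1, 2, 3]), ([1], [0, 2, 3, 5]), ([2], [0, 4, 5]), ([3], [5]), ([4], [3, 5]), ([5], [4])],
    [([0], [0, 1, 2, 3, 5]), ([1], [0, 2, 4, 5]), ([2], [0, 3, 5]), ([3], [5]), ([4], [3, 5]), ([5], [4])],
    [([0], [0, 1, 2, 3, 5]), ([1], [0, 2, 4, 5]), ([2], [0, 3, 5]), ([3], [5]), ([4], [3, 5]), ([5], [4])],
    [([0], [0, 3, 4]), ([1], [1, 3, 5]), ([2], [2, 3, 4]), ([3], [3]), ([4], [4]), ([5], [5])],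
    [([0], [0, 4]), ([1], [1]), ([2], [2, 3, 4, 5]), ([3], [3]), ([4], [4]), ([5], [5])],
    [([0], [0, 4]), ([1], [1]), ([2], [2, 3, 4, 5]), ([3], [3]), ([4], [4]), ([5], [5])],
    [([0], [0, 4]), ([1], [1]), ([2], [2, 3, 4, 5]), ([3], [3]), ([4], [4]), ([5], [5])],
    [([0], [0, 3]), ([1], [1, 3, 4, 5]), ([2], [2, 3, 4, 5]), ([3], [3]), ([4], [4]), ([5], [5])],
    [([0], [0, 4]), ([1], [1, 4]), ([2], [2, 5]), ([3], [3]), ([4], [4]), ([5], [5])],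
    [([0], [0, 3, 4]), ([1], [1, 3, 5]), ([2], [2, 3, 4]), ([3], [3]), ([4], [4]), ([5], [5])],
    [([0], [0, 4]), ([1], [1]), ([2], [2, 3, 4, 5]), ([3], [3]), ([4], [4]), ([5], [5])],
    [([0], [0, 3]), ([1], [1, 3, 4, 5]), ([2], [2, 3, 4, 5]), ([3], [3]), ([4], [4]), ([5], [5])],
    [([0], [0, 3, 4]), ([1], [1, 3, 5]), ([2], [2, 3, 4]), ([3], [3]), ([4], [4]), ([5], [5])],
    [([0], [0, 3]), ([1], [1, 3, 4, 5]), ([2], [2, 3, 4, 5]), ([3], [3]), ([4], [4]), ([5], [5])],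
    [([0], [0, 4]), ([1], [1, 4]), ([2], [2, 5]), ([3], [3]), ([4], [4]), ([5], [5])],
    [([0], [0]), ([1], [1, 4]), ([2], [2, 3, 4]), ([3], [3]), ([4], [4]), ([5], [5])],
    [([0], [0, 3]), ([1], [1, 3, 4, 5]), ([2], [2, 3, 4, 5]), ([3], [3]), ([4], [4]), ([5], [5])],
    [([0], [0]), ([1], [1, 4]), ([2], [2, 3, 4]), ([3], [3]), ([4], [4]), ([5], [5])],
    [([0], [0, 3, 4]), ([1], [1, 3, 5]), ([2], [2, 3, 4]), ([3], [3]), ([4], [4]), ([5], [5])],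
    [([0], [0, 3]), ([1], [1, 3, 4, 5]), ([2], [2, 3, 4, 5]), ([3], [3]), ([4], [4]), ([5], [5])],
    [([0], [0, 3, 4]), ([1], [1, 3, 4, 5]), ([2], [2]), ([3], [3]), ([4], [4]), ([5], [5])],
    [([0], [0, 4]), ([1], [1, 4]), ([2], [2, 5]), ([3], [3]), ([4], [4]), ([5], [5])],
    [([0], [0, 4]), ([1], [1, 4]), ([2], [2, 5]), ([3], [3]), ([4], [4]), ([5], [5])]]
  overlaps := [
    ([0, 0, 0], [(0, 0), (16, 2), (12, 1), (9, 0)], [(0, 1)]),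
    ([1, 1, 1], [(1, 0), (17, 0)], [(1, 1)]),
    ([1, 1, 0], [(1, 0), (16, 0)], [(6, 1), (6, 0), (13, 2), (1, 1), (20, 1), (20, 2), (4, 1)]),
    ([1, 0, 0], [(0, 1)], [(6, 0), (12, 2), (6, 1), (0, 0), (17, 2), (13, 1), (10, 0), (20, 3), (4, 2), (20, 2)]),
    ([2, 2, 2], [(2, 0), (18, 1), (14, 0)], [(2, 1)]),
    ([2, 2, 0], [(2, 0), (16, 1), (12, 0)], [(7, 1), (7, 0), (14, 3), (11, 2), (2, 1), (19, 2), (15, 1), (20, 3), (4, 2), (19, 2), (3, 1), (20, 1)]),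
    ([2, 0, 0], [(0, 1)], [(7, 0), (12, 3), (9, 2), (7, 1), (0, 0), (18, 2), (14, 1), (11, 0), (19, 3), (15, 2), (3, 1), (20, 2), (4, 1), (19, 1), (20, 2)]),
    ([2, 2, 1], [(2, 0), (17, 1), (13, 0)], [(8, 1), (8, 0), (18, 4), (14, 3), (11, 2), (2, 1), (19, 2), (15, 1), (20, 3), (4, 2), (5, 2), (3, 1)]),
    ([2, 1, 1], [(1, 1)], [(8, 0), (17, 4), (13, 3), (10, 2), (8, 1), (1, 0), (18, 0), (19, 1), (20, 2), (5, 3), (15, 2), (3, 1), (4, 1)]),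
    ([2, 1, 0], [(8, 0), (16, 4), (12, 3), (9, 2), (7, 1), (6, 0), (14, 2), (15, 3), (4, 4), (3, 3)], [(6, 1), (7, 0), (13, 3), (10, 2), (8, 1), (19, 5), (15, 4), (3, 3), (20, 4), (4, 3), (20, 3)]),
    ([3, 0, 0], [(0, 1), (3, 0)], [(9, 0), (9, 1), (0, 0), (19, 2), (15, 1), (3, 0)]),
    ([3, 1, 1], [(1, 1)], [(10, 0), (10, 1), (1, 0), (19, 0)]),
    ([4, 4, 0], [(4, 0)], [(12, 1), (12, 0), (4, 1)]),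
    ([4, 0, 0], [(0, 1), (15, 0), (4, 1)], [(12, 0), (12, 1), (0, 0), (20, 2), (4, 1)]),
    ([4, 1, 1], [(1, 1)], [(13, 0), (13, 1), (1, 0), (20, 0)]),
    ([5, 5, 0], [(5, 0)], [(16, 1), (16, 0), (5, 1)])]
  fuses := [
    ⟨0, [0, 0], [3, 4, 5], [(0, 0)], [], [(16, 3), (7, 2), (6, 1), (0, 0), (17, 2), (13, 1), (10, 0), (20, 3), (4, 2), (18, 2), (11, 1), (19, 3), (3, 2), (20, 2), (5, 3), (13, 2), (8, 1), (1, 0), (18, 0), (19, 1), (20, 2), (5, 3), (4, 2), (11, 1), (2, 0), (19, 1), (15, 0), (5, 2)], [(19, 0), (5, 1)]⟩,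
    ⟨0, [1, 0], [0, 1, 4], [(6, 0)], [], [(7, 1), (0, 0), (18, 2), (14, 1), (11, 0), (19, 3), (15, 2), (3, 1), (20, 2), (4, 1), (17, 1), (8, 0), (5, 4), (14, 3), (11, 2), (2, 1), (19, 2), (15, 1), (20, 3), (4, 2), (5, 2)], [(16, 3), (7, 2), (6, 1), (0, 0), (17, 2), (13, 1), (10, 0), (20, 3), (4, 2), (18, 2), (11, 1), (19, 3), (3, 2), (20, 2), (5, 3), (14, 2), (2, 1), (20, 2), (4, 1), (19, 1), (5, 2)]⟩,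
    ⟨0, [2, 0], [0, 2, 3, 4], [(7, 0)], [], [(16, 1), (0, 0), (5, 2), (13, 1), (10, 0), (14, 2), (11, 1)], [(16, 3), (7, 2), (6, 1), (0, 0), (17, 2), (13, 1), (10, 0), (20, 3), (4, 2), (18, 2), (11, 1), (19, 3), (3, 2), (20, 2), (5, 3), (5, 3), (15, 2)]⟩,
    ⟨0, [4, 0], [0, 4], [(12, 0)], [], [(16, 1), (9, 0), (17, 2), (10, 1), (18, 3), (11, 2), (5, 4)], [(19, 3), (5, 4)]⟩,
    ⟨0, [1, 1], [5], [(1, 0)], [], [(7, 1), (0, 0), (18, 2), (14, 1), (11, 0), (19, 3), (15, 2), (3, 1), (20, 2), (4, 1), (18, 1), (2, 0), (5, 1)], []⟩,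
    ⟨0, [2, 1], [1, 2, 3, 4, 5], [(8, 0)], [], [(16, 1), (0, 0), (5, 2), (14, 1), (11, 0)], [(7, 1), (0, 0), (18, 2), (14, 1), (11, 0), (19, 3), (15, 2), (3, 1), (20, 2), (4, 1), (5, 1), (19, 1), (5, 2)]⟩,
    ⟨0, [4, 1], [1, 4], [(13, 0)], [], [(16, 1), (9, 0), (18, 2), (11, 1)], []⟩,
    ⟨0, [2, 2], [4, 5], [(2, 0)], [], [(16, 1), (0, 0), (5, 2)], [(20, 1)]⟩,
    ⟨0, [5, 5], [], [(5, 0)], [], [(4, 0)], []⟩,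
    ⟨2, [1, 1], [5], [(1, 0)], [], [(16, 3), (12, 2), (7, 1), (0, 0), (18, 2), (14, 1), (11, 0), (19, 3), (15, 2), (3, 1), (20, 2), (4, 1), (20, 1), (5, 2), (14, 1), (2, 0), (20, 1), (4, 0), (20, 0), (5, 1)], []⟩,
    ⟨2, [5, 5], [], [(5, 0)], [], [(4, 0)], []⟩,
    ⟨21, [0, 0], [3, 4, 5], [(0, 0)], [], [(12, 2), (9, 1), (0, 0), (19, 2), (15, 1), (3, 0), (20, 1), (4, 0), (19, 0), (20, 1)], []⟩,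
    ⟨21, [2, 0], [0, 2, 3, 4], [(7, 0)], [], [(7, 0), (15, 3), (3, 2), (4, 2)], [(14, 2), (11, 1), (15, 3), (3, 2), (4, 2)]⟩,
    ⟨21, [1, 1], [5], [(1, 0)], [], [(17, 3), (13, 2), (10, 1), (1, 0), (19, 0), (20, 1), (5, 2), (15, 1), (3, 0), (4, 0)], []⟩]
  adj := [
    [(7, 3), (8, 1), (21, 3), (22, 3), (23, 2), (147, 2), (148, 2)],
    [(21, 2), (22, 1), (23, 3), (24, 3), (25, 3), (26, 3)],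
    [(7, 3), (8, 1), (21, 3), (22, 3), (23, 1), (147, 1), (148, 3)],
    [(6, 7), (7, 1)],
    [(6, 1)],
    [(1, 1), (21, 4), (22, 2), (23, 6), (24, 6), (25, 6), (26, 6)]]
  base := [
    ([(9, 1)], 2, [(0, 2), (12, 1), (15, 1)]),
    ([(11, 1)], 2, [(0, 6), (2, 6), (3, 2), (4, 4), (7, 2), (8, 6), (9, 6), (10, 4), (12, 2), (13, 4), (15, 3), (19, 2), (22, 2)])]
  dense := [
    [0, 0, 0, 0, 0, 0, 0, 0, 0, 1, 0, 0, 1, 0, 0, 0, 1],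
    [0, 0, 0, 0, 0, 0, 0, 0, 0, 0, 0, 0, 0, 0, 0, 0, 0, 1],
    [0, 0, 0, 0, 7, 0, 6, 0, 0, 0, 0, 0, 0, 7, 0, 0, 1, 0, 0, 0, 6],
    [0, 0, 0, 0, 7, 0, 6, 0, 0, 0, 7, 0, 7, 7, 0, 0, 0, 7, 0, 0, 6],
    [0, 0, 0, 0, 0, 0, 0, 0, 0, 0, 0, 0, 0, 0, 1, 0, 0, 0, 1],
    [0, 0, 0, 7, 7, 0, 0, 6, 0, 0, 0, 7, 1, 0, 7, 7, 1, 0, 0, 6, 6],
    [0, 0, 0, 7, 7, 0, 0, 6, 0, 7, 0, 7, 7, 0, 7, 7, 0, 0, 7, 6, 6],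
    [0, 0, 0, 7, 7, 7, 0, 0, 6, 0, 0, 7, 0, 1, 7, 7, 0, 1, 7, 7, 7],
    [0, 0, 0, 7, 7, 7, 0, 0, 6, 0, 7, 0, 0, 7, 0, 7, 0, 7, 7, 7, 7],
    [0, 0, 0, 0, 0, 0, 0, 0, 0, 1, 7, 0, 1, 7, 1, 0, 1, 0, 0, 7, 6],
    [0, 0, 0, 0, 0, 0, 0, 0, 0, 6, 0, 0, 0, 0, 0, 7, 0, 0, 0, 7],
    [0, 0, 0, 0, 0, 0, 0, 0, 0, 0, 6, 0, 0, 0, 0, 0, 0, 0, 0, 7],
    [0, 0, 0, 0, 0, 0, 0, 0, 0, 0, 0, 0, 6],
    [0, 0, 0, 0, 0, 0, 0, 0, 0, 0, 0, 0, 6, 0, 0, 1, 0, 0, 0, 0, 7],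
    [0, 0, 0, 0, 0, 0, 0, 0, 0, 0, 0, 0, 0, 6, 0, 0, 0, 0, 0, 0, 7],
    [0, 0, 0, 0, 0, 0, 0, 0, 0, 0, 0, 0, 0, 0, 0, 0, 6],
    [0, 7, 7, 7, 6, 6, 7, 7, 7, 0, 7, 6, 0, 6, 0, 7, 7, 7, 6, 6, 5, 6, 0, 0, 1, 1, 1],
    [0, 0, 0, 0, 0, 0, 2, 0, 7, 0, 1, 7, 0, 1, 7, 6, 1, 0, 0, 0, 1, 0, 0, 0, 0, 1],
    [0, 0, 0, 1, 1, 1, 1, 2, 0, 0, 0, 0, 0, 0, 7, 1, 0, 1, 1, 1, 2, 0, 0, 0, 1, 1],
    [0, 0, 0, 0, 0, 0, 0, 0, 0, 7, 7, 7, 1, 0, 0, 0, 7, 7, 7, 1],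
    [7, 1, 7, 7, 7, 7, 0, 7, 0, 0, 0, 7, 0, 0, 7, 7, 0, 0, 6, 7, 7, 0, 6, 0, 0, 0, 1],
    [0, 0, 0, 1, 1, 1, 0, 1, 1, 0, 0, 0, 0, 0, 0, 1, 7, 0, 1, 2, 1, 0, 0, 0, 1, 1, 1],
    [0, 0, 0, 0, 0, 0, 0, 0, 0, 7, 0, 7, 0, 1, 0, 0, 7, 0, 7],
    [7, 0, 1, 0, 0, 7, 0, 0, 0, 0, 0, 0, 0, 0, 0, 0, 7, 0, 0, 0, 1, 0, 0, 6, 0, 1, 1],
    [0, 0, 0, 0, 7, 1, 0, 0, 0, 0, 0, 0, 0, 0, 0, 0, 0, 0, 0, 0, 0, 0, 0, 0, 0, 0, 6],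
    [7, 1, 7, 7, 6, 6, 0, 7, 0, 0, 0, 7, 7, 0, 6, 7, 7, 0, 7, 7, 4, 0, 0, 0, 0, 0, 0, 0, 0, 0, 0, 0, 0, 0, 6, 0, 0, 0, 1],
    [0, 0, 0, 0, 7, 1, 0, 0, 0, 0, 0, 0, 0, 0, 0, 0, 0, 0, 0, 0, 0, 0, 0, 0, 0, 0, 0, 0, 0, 0, 0, 0, 0, 0, 0, 0, 0, 0, 6],
    [0, 0, 0, 7, 7, 0, 0, 0, 0, 7, 0, 0, 7, 0, 0, 7, 0, 0, 0, 6, 6, 0, 0, 0, 0, 0, 0, 0, 0, 0, 0, 0, 0, 0, 0, 0, 0, 0, 0, 0, 0, 0, 0, 0, 0, 0, 0, 0, 0, 0, 0, 0, 0, 0, 0, 0, 0, 0, 0, 0, 0, 0, 0, 0, 0, 0, 0, 0, 0, 0, 0, 0, 0, 0, 0, 0, 0, 0, 0, 0, 0, 0, 0, 0, 0, 0, 0, 0, 0, 0, 0, 0, 0, 0, 0, 0, 0, 0, 0, 0, 0, 0, 0, 0, 0, 0, 0, 0, 0, 0, 0, 0, 0, 0, 0, 0, 0, 0, 0, 0, 0, 0, 0, 0, 0, 0, 0, 0, 0, 0, 0, 0, 0, 0, 0, 0, 0, 0, 0, 0, 0, 0, 0, 0, 0, 0, 0, 6, 0, 0, 1, 1, 1],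
    [0, 0, 0, 0, 0, 0, 0, 0, 0, 0, 0, 1, 0, 0, 1, 0, 0, 0, 0, 0, 0, 0, 0, 0, 0, 0, 0, 0, 0, 0, 0, 0, 0, 0, 0, 0, 0, 0, 0, 0, 0, 0, 0, 0, 0, 0, 0, 0, 0, 0, 0, 0, 0, 0, 0, 0, 0, 0, 0, 0, 0, 0, 0, 0, 0, 0, 0, 0, 0, 0, 0, 0, 0, 0, 0, 0, 0, 0, 0, 0, 0, 0, 0, 0, 0, 0, 0, 0, 0, 0, 0, 0, 0, 0, 0, 0, 0, 0, 0, 0, 0, 0, 0, 0, 0, 0, 0, 0, 0, 0, 0, 0, 0, 0, 0, 0, 0, 0, 0, 0, 0, 0, 0, 0, 0, 0, 0, 0, 0, 0, 0, 0, 0, 0, 0, 0, 0, 0, 0, 0, 0, 0, 0, 0, 0, 0, 0, 0, 0, 0, 1, 1],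
    [0, 0, 0, 7, 7, 7, 0, 0, 0, 0, 7, 0, 0, 7, 0, 7, 0, 7, 0, 7, 7, 0, 0, 0, 0, 0, 0, 0, 0, 0, 0, 0, 0, 0, 0, 0, 0, 0, 0, 0, 0, 0, 0, 0, 0, 0, 0, 0, 0, 0, 0, 0, 0, 0, 0, 0, 0, 0, 0, 0, 0, 0, 0, 0, 0, 0, 0, 0, 0, 0, 0, 0, 0, 0, 0, 0, 0, 0, 0, 0, 0, 0, 0, 0, 0, 0, 0, 0, 0, 0, 0, 0, 0, 0, 0, 0, 0, 0, 0, 0, 0, 0, 0, 0, 0, 0, 0, 0, 0, 0, 0, 0, 0, 0, 0, 0, 0, 0, 0, 0, 0, 0, 0, 0, 0, 0, 0, 0, 0, 0, 0, 0, 0, 0, 0, 0, 0, 0, 0, 0, 0, 0, 0, 0, 0, 0, 0, 0, 6, 0, 0, 0, 1]]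
  tgt := [
    ([(0, 1), (1, 2)], [(0, 7), (1, 1), (2, 4), (3, 1), (4, 7), (5, 6), (7, 7), (8, 5), (9, 4), (10, 1), (13, 7), (16, 3), (17, 3), (18, 7), (20, 2), (23, 5), (27, 2), (28, 6), (29, 6)]),
    ([], []),
    ([(0, 2), (1, 3)], [(0, 1), (2, 1), (3, 4), (4, 7), (5, 6), (8, 4), (9, 6), (10, 7), (11, 6), (13, 3), (16, 3), (17, 2), (20, 2), (21, 7), (23, 6), (27, 3), (28, 5), (29, 5)]),
    ([(0, 2), (1, 4)], [(0, 2), (1, 6), (2, 1), (4, 7), (6, 7), (7, 5), (8, 3), (9, 5), (10, 5), (13, 4), (14, 2)]),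
    ([(0, 2), (1, 4)], [(0, 1), (1, 2), (2, 1), (3, 7), (4, 3), (5, 1), (7, 7), (9, 7), (10, 3), (11, 7), (13, 3), (18, 2), (19, 4), (21, 6), (24, 7)]),
    ([(0, 2), (1, 6)], [(0, 7), (1, 2), (2, 7), (3, 7), (4, 1), (5, 5), (7, 1), (9, 5), (10, 5), (11, 5), (13, 1), (16, 4), (17, 6), (18, 4), (20, 2), (21, 4), (23, 2), (25, 4), (26, 2), (27, 4), (28, 4), (29, 4)]),
    ([], []),
    ([], []),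
    ([(0, 5), (1, 1)], [(0, 4), (1, 4), (2, 6), (3, 4), (4, 4), (5, 1), (9, 7), (10, 7), (11, 1), (13, 1), (16, 6), (17, 5), (19, 2), (20, 5), (21, 4), (23, 3)]),
    ([(0, 1)], []),
    ([(0, 1)], [(0, 7), (1, 7), (2, 1), (3, 7)]),
    ([(1, 1)], []),
    ([(0, 7), (1, 5)], [(0, 6), (1, 7), (2, 6), (3, 3), (4, 4), (5, 1), (7, 7), (9, 6), (10, 3), (11, 1), (13, 3), (18, 2), (19, 5), (21, 6), (24, 7)]),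
    ([(0, 2), (1, 3)], [(0, 6), (1, 7), (2, 4), (3, 6), (4, 1), (5, 2), (7, 6), (9, 3), (11, 2), (18, 4), (19, 3), (21, 4), (24, 6)]),
    ([(0, 5), (1, 7)], [(0, 2), (2, 7), (3, 7), (4, 1), (5, 6), (7, 2), (9, 4), (10, 2), (11, 7), (13, 2), (18, 4), (19, 7), (21, 4), (24, 2)]),
    ([], [(0, 6), (1, 6), (2, 2), (3, 6), (10, 7), (11, 1)]),
    ([(1, 3)], [(0, 3), (1, 1), (2, 2), (3, 5), (4, 4), (5, 7), (7, 1), (9, 2), (10, 5), (11, 7), (13, 5), (18, 6), (19, 3), (21, 2), (24, 1)]),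
    ([], [(1, 1)]),
    ([(0, 3), (1, 1)], [(0, 6), (2, 1), (3, 1), (5, 2), (7, 6), (9, 4), (10, 6), (11, 1), (13, 6), (18, 4), (19, 1), (21, 4), (24, 6)]),
    ([(0, 6)], [(0, 2), (1, 2), (2, 6), (3, 2), (11, 7)]),
    ([(0, 2), (1, 6)], [(0, 2), (2, 6), (5, 6), (7, 2), (9, 4), (10, 1), (11, 7), (13, 1), (18, 4), (19, 6), (21, 4), (24, 2)])]

/-- Orbits inside the subgroup. -/
def orbits : List (ℕ × List (ℕ × List ℕ)) := [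
    (0, [(0, []), (1, [0, 2, 3, 5]), (2, [2, 4, 5]), (3, [4, 5]), (4, [1]), (5, [0, 2, 4]), (6, [0, 1, 2, 4]), (7, [0, 1, 2, 3, 4]), (8, [0, 4, 5]), (9, [1, 3, 4, 5]), (10, [3]), (11, [0, 1, 3, 4]), (12, [0, 1, 2, 3, 4, 5]), (13, [0, 1, 3, 5]), (14, [4]), (15, [0, 3, 4]), (16, [2]), (17, [1, 2, 4]), (18, [0, 3]), (19, [0, 4]), (20, [0, 1, 2, 4, 5]), (21, [1, 3, 4]), (22, [0, 1, 2, 3]), (23, [2, 5]), (24, [1, 5]), (25, [0, 2, 3]), (26, [0, 1, 5]), (27, [0, 5]), (28, [0, 2, 3, 4, 5]), (29, [2, 3, 5]), (30, [0, 1]), (31, [2, 3, 4, 5]), (32, [1, 2, 3, 4]), (33, [0]), (34, [0, 2, 5]), (35, [0, 2, 4, 5]), (36, [3, 4]), (37, [1, 2, 4, 5]), (38, [1, 3]), (39, [0, 3, 4, 5]), (40, [1, 2]), (41, [0, 1, 2]), (42, [0, 1, 2, 5]), (43, [1, 4, 5]), (44, [0, 2]), (45, [0, 1, 3, 4, 5]), (46, [1,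 2, 3]), (47, [0, 1, 4]), (48, [2, 4]), (49, [1, 2, 3, 5]), (50, [1, 2, 3, 4, 5]), (51, [5]), (52, [3, 5]), (53, [2, 3]), (54, [0, 1, 3]), (55, [1, 4]), (56, [3, 4, 5]), (57, [0, 3, 5]), (59, [0, 1, 4, 5]), (60, [2, 3, 4]), (61, [0, 2, 3, 4]), (62, [1, 2, 5]), (63, [0, 1, 2, 3, 5]), (64, [1, 3, 5])])]

theorem checks : certChecks 65 tab cert sw gw orbits = true := by decide +kernel

theorem lin_ok : cert.linOK = true := by decide +kernel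

end CfsgLib.Lie.MultExc.SzEight.P2
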