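import Cfsg.Agent.Lib.Lie.MultExc.SzEight.Group
import Cfsg.Agent.Lib.Lie.MultExc.SzEight.CoverData
import Cfsg.Agent.Lib.Lie.MultExc.SzEight.P2

/-!
The Schur multiplier of the Suzuki group over eight elements is elementary abelian of order four.
-/

set_option autoImplicit false
set_option maxRecDepth 100000

namespace CfsgLib.Lie.MultExc.SzEight

open CfsgLib.Spor.SchurCert

theorem cert_facts : P2.cert.p = 2 ∧ P2.cert.N = 2 ^ 3 ∧ P2.cert.bound = 4 ∧ P2.cert.m = 6 ∧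
    (tab.trans.map List.length).prod = 29120 := by
  decide +kernel

theorem ker_dvd {H : Subgroup (Equiv.Perm (Fin 65))} (M : Model 65 tab H) {Γ : Type*} [Group Γ] [Finite Γ]
    (τ : Γ →* ↥H) (hτ : Cfsg.IsStemExtension τ) : Nat.card τ.ker ∣ 4 := by
  obtain ⟨hp, hN, hbd, hm, hord⟩ := cert_facts
  refine card_dvd_of_parts τ.ker (by norm_num) fun ℓ hℓ P hP hPp => ?_
  by_cases h2 : ℓ = 2
  · subst h2
    have h := part_le M hτ P2.cert (by rw [hp]; norm_num) (e := 3) (by rw [hp, hN]) (by rw [hbd, hN]; norm_num)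
      (r := 455) (by rw [hp]; norm_num) (by rw [hp, hm, hord]; norm_num) P2.checks P2.lin_ok P hP (by rw [hp]; exact hPp)
    rw [hbd] at h
    refine h.trans (le_of_eq ?_)
    rw [show (4 : ℕ) = 2 ^ 2 from rfl, Nat.Prime.factorization_pow hℓ, Finsupp.single_eq_same]
  refine le_trans ?_ (Nat.one_le_pow _ _ hℓ.pos)
  by_cases h5 : ℓ = 5
  · subst h5
    exact part_once M hτ hℓ (r := 5824) (by rw [hord]) (by norm_num) P hP hPp
  by_cases h7 : ℓ = 7
  · subst h7
    exact part_once M hτ hℓ (r := 4160) (by rw [hord]) (by norm_num) P hP hPp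
  by_cases h13 : ℓ = 13
  · subst h13
    exact part_once M hτ hℓ (r := 2240) (by rw [hord]) (by norm_num) P hP hPp
  refine part_other M hτ hℓ ?_ P hP hPp
  rw [hord, show (29120 : ℕ) = 2 ^ 6 * (5 * (7 * 13)) by norm_num]
  intro hd
  rcases hℓ.dvd_mul.1 hd with h | h
  · exact h2 ((Nat.prime_dvd_prime_iff_eq hℓ Nat.prime_two).1 (hℓ.dvd_of_dvd_pow h))
  rcases hℓ.dvd_mul.1 h with h | h
  · exact h5 ((Nat.prime_dvd_prime_iff_eq hℓ (by norm_num)).1 h)
  rcases hℓ.dvd_mul.1 h with h | h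
  · exact h7 ((Nat.prime_dvd_prime_iff_eq hℓ (by norm_num)).1 h)
  · exact h13 ((Nat.prime_dvd_prime_iff_eq hℓ (by norm_num)).1 h)

/-- The kernel of the covering group. -/
def kerEquiv : Multiplicative ((i : Fin 2) → ZMod (layers i).m) ≃* Multiplicative (ZMod 2 × ZMod 2) where
  toFun f := Multiplicative.ofAdd ((f.toAdd 0 : ZMod 2), (f.toAdd 1 : ZMod 2))
  invFun q := Multiplicative.ofAdd fun i => Fin.cases (q.toAdd.1 : ZMod 2)
    (fun j => Fin.cases (q.toAdd.2 : ZMod 2) (fun k => k.elim0) j) i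
  left_inv f := by
    apply Multiplicative.toAdd.injective
    funext i
    fin_cases i <;> rfl
  right_inv q := rfl
  map_mul' f g := rfl

universe u

theorem multiplier_Sz8 {F : Type u} [Field F] [Fintype F] (hF : Fintype.card F = 8) :
    Cfsg.HasSchurMultiplier ↥(Cfsg.Lie.Sz F 4) (Multiplicative (ZMod 2 × ZMod 2)) := by
  have hF' : Fintype.card F = 2 ^ (2 * 1 + 1) := by rw [hF]; norm_num
  obtain ⟨H, M, ⟨e⟩⟩ := exists_szModel hF'
  obtain ⟨f⟩ := CfsgLib.Lie.Suz.exists_twEquiv (F := F) (m := 1) le_rfl hF'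
  have : Finite ↥(Cfsg.Lie.Sz F 4) := Finite.of_equiv _ (e.trans f).toEquiv
  obtain ⟨σ, hσ, hH⟩ := M.gens
  obtain ⟨Γ, _, _, τ, hτ, ⟨k⟩⟩ := exists_cover gens_ok comms_ok σ hσ H hH
  refine hasSchurMultiplier_of_cover_bound (e.trans f) hτ ⟨k.trans kerEquiv⟩ fun Δ _ _ π hπ => ?_
  have h4 : Nat.card (Multiplicative (ZMod 2 × ZMod 2)) = 4 := by
    rw [Nat.card_congr Multiplicative.toAdd, Nat.card_prod, Nat.card_zmod]
  rw [h4]
  exact ker_dvd M π hπ

end CfsgLib.Lie.MultExc.SzEight
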