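import Mathlib

/-!
A field with eight elements on the bit patterns of the polynomials of degree below three, modulo `X ^ 3 + X + 1`.
-/

set_option autoImplicit false

namespace CfsgLib.Lie.MultExc.SzEight

/-- Eight elements. -/
structure Eight where
  v : Fin 8
  deriving DecidableEq

namespace Eight

instance : Fintype Eight := Fintype.ofEquiv (Fin 8) ⟨Eight.mk, Eight.v, fun _ => rfl, fun _ => rfl⟩

/-- Reduced product of bit patterns. -/
def mulN (a b : ℕ) : ℕ :=
  let r := (if b.testBit 0 then a else 0) ^^^ (if b.testBit 1 then 2 * a else 0) ^^^ (if b.testBit 2 then 4 * a else 0)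
  let r' := if r.testBit 4 then r ^^^ 22 else r
  if r'.testBit 3 then r' ^^^ 11 else r'

/-- A bit pattern as an element. -/
def ofN (a : ℕ) : Eight := ⟨⟨a % 8, Nat.mod_lt _ (by norm_num)⟩⟩

instance : Add Eight := ⟨fun a b => ofN (a.v.1 ^^^ b.v.1)⟩
instance : Mul Eight := ⟨fun a b => ofN (mulN a.v.1 b.v.1)⟩
instance : Zero Eight := ⟨ofN 0⟩
instance : One Eight := ⟨ofN 1⟩
instance : Neg Eight := ⟨id⟩
instance : Inv Eight := ⟨fun a => a * a * (a * a) * (a * a)⟩

instance : CommRing Eight where
  add_assoc := by decide +kernel
  zero_add := by decide +kernel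
  add_zero := by decide +kernel
  add_comm := by decide +kernel
  left_distrib := by decide +kernel
  right_distrib := by decide +kernel
  zero_mul := by decide +kernel
  mul_zero := by decide +kernel
  mul_assoc := by decide +kernel
  one_mul := by decide +kernel
  mul_one := by decide +kernel
  mul_comm := by decide +kernel
  neg_add_cancel := by decide +kernel
  nsmul := nsmulRec
  zsmul := zsmulRec

instance : Field Eight where
  inv := Inv.inv
  mul_inv_cancel := by decide +kernel
  inv_zero := by decide +kernel
  exists_pair_ne := ⟨0, 1, by decide +kernel⟩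
  nnqsmul := _
  qsmul := _

theorem card_eight : Fintype.card Eight = 8 := by decide +kernel

end Eight

end CfsgLib.Lie.MultExc.SzEight
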