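import Cfsg.Agent.Lib.Lie.MultExc.SzEight.Field
import Cfsg.Agent.Lib.Lie.MultExc.SzEight.Table
import Cfsg.Agent.Lib.Lie.Suz.Twisted
import Cfsg.Agent.Lib.Lie.Suz.Group

/-!
The Suzuki group over eight elements is the tabulated permutation group of the sixty-five points of the ovoid.
-/

set_option autoImplicit false
set_option maxRecDepth 100000

namespace CfsgLib.Lie.MultExc.SzEight

open Cfsg CfsgLib.Spor.PermCert CfsgLib.Lie.Suz
open scoped MatrixGroups

universe u

/-- The coordinates of the finite points. -/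
def coordX (i : ℕ) : Eight := Eight.ofN (i / 8)

/-- The second coordinates of the finite points. -/
def coordY (i : ℕ) : Eight := Eight.ofN (i % 8)

/-- The number of a finite point. -/
def numOf (x y : Eight) : ℕ := x.v.1 * 8 + y.v.1

theorem coords_ok : (∀ x y : Eight, numOf x y < 64 ∧ coordX (numOf x y) = x ∧ coordY (numOf x y) = y) ∧
    ∀ i : Fin 64, numOf (coordX i.1) (coordY i.1) = i.1 := by
  decide +kernel

theorem images_ok :
    ((∀ i : Fin 64, numOf (coordX i.1 + Eight.ofN 2) (coordY i.1 + th 1 (Eight.ofN 2) * coordX i.1 + 0) =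
        look tab.w tab.R 0 i.1) ∧ look tab.w tab.R 0 64 = 64) ∧
    ((∀ i : Fin 64, i.1 ≠ 0 → numOf (coordY i.1 * (fO 1 (coordX i.1) (coordY i.1))⁻¹)
        (coordX i.1 * (fO 1 (coordX i.1) (coordY i.1))⁻¹) = look tab.w tab.R 1 i.1) ∧
      look tab.w tab.R 1 0 = 64 ∧ look tab.w tab.R 1 64 = 0) := by
  decide +kernel

variable {F : Type u} [Field F] [Fintype F] (hF : Fintype.card F = 2 ^ (2 * 1 + 1))

include hF

theorem exists_szModel : ∃ H : Subgroup (Equiv.Perm (Fin 65)), Model 65 tab H ∧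
    Nonempty (↥H ≃* Cfsg.Sz F 1) := by
  classical
  let ι : Eight ≃+* F := FiniteField.ringEquivOfCardEq (Eight.card_eight.trans (by rw [hF]; norm_num))
  have hS := isSuzField hF
  haveI := simple (m := 1) le_rfl hF
  have hth : ∀ x, th 1 (ι x) = ι (th 1 x) := fun x => (map_pow ι x _).symm
  have hfO : ∀ x y, fO 1 (ι x) (ι y) = ι (fO 1 x y) := fun x y => by
    simp only [fO, hth, map_add, map_mul, map_pow]
  let e : Fin 65 → Projectivization F (Fin 4 → F) := fun i =>
    if i.1 < 64 then pt 1 (ι (coordX i.1)) (ι (coordY i.1)) else suzukiPointInfinity F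
  have e_fin : ∀ x y : Eight, e ⟨numOf x y, lt_trans (coords_ok.1 x y).1 (by norm_num)⟩ = pt 1 (ι x) (ι y) :=
    fun x y => by
      obtain ⟨h1, h2, h3⟩ := coords_ok.1 x y
      simp only [e, if_pos h1, h2, h3]
  have e_inf : e ⟨64, by norm_num⟩ = suzukiPointInfinity F := if_neg (lt_irrefl 64)
  have he : Function.Injective e := fun i j h => by
    simp only [e] at h
    split_ifs at h with hi hj hj
    · obtain ⟨hx, hy⟩ := pt_inj h
      have a := coords_ok.2 ⟨i.1, hi⟩
      rw [show coordX i.1 = coordX j.1 from ι.injective hx, show coordY i.1 = coordY j.1 from ι.injective hy,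
        coords_ok.2 ⟨j.1, hj⟩] at a
      exact Fin.ext a.symm
    · exact absurd h (pt_ne_inf _ _)
    · exact absurd h.symm (pt_ne_inf _ _)
    · exact Fin.ext (by omega)
  have hov : ∀ i, e i ∈ suzukiOvoid F 1 := fun i => by
    simp only [e]
    split_ifs
    · exact (ovoid_iff _).2 (Or.inr ⟨_, _, rfl⟩)
    · exact ovoid_inf
  have hcard : Nat.card (Cfsg.Sz F 1) = 29120 := by
    rw [card_Sz le_rfl hF, hF]
    norm_num
  obtain ⟨⟨t0, t1⟩, w0, w1, w2⟩ := images_ok
  refine exists_model tab e he (fun g i => ?_)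
    (fun s => if s = 0 then TS hF (ι (Eight.ofN 2)) 0 else WS hF) (fun s hs i => ?_)
    ⟨1, by decide, ⟨64, by norm_num⟩, by rw [w2]; norm_num⟩ (by rw [hcard]; exact tab_ok)
  · have h1 : g • e i ∈ suzukiOvoid F 1 := by
      rw [Subgroup.smul_def]
      exact smul_mem_ovoid g.2 (hov i)
    rcases (ovoid_iff _).1 h1 with h2 | ⟨x, y, h2⟩
    · exact ⟨_, h2.trans e_inf.symm⟩
    · obtain ⟨x', rfl⟩ := ι.surjective x
      obtain ⟨y', rfl⟩ := ι.surjective y
      exact ⟨_, h2.trans (e_fin x' y').symm⟩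
  · have hs2 : s = 0 ∨ s = 1 := by
      have : tab.ngen = 2 := rfl
      omega
    have hi : i.1 < 64 ∨ i = ⟨64, by norm_num⟩ := by
      have := i.2
      rcases Nat.lt_or_ge i.1 64 with h | h
      · exact Or.inl h
      · exact Or.inr (Fin.ext (show i.1 = 64 by omega))
    rcases hs2 with rfl | rfl
    · rw [if_pos rfl, Subgroup.smul_def]
      show ∃ j : Fin 65, j.1 = _ ∧ T 1 (ι (Eight.ofN 2)) 0 • e i = e j
      rcases hi with hi | rfl
      · refine ⟨⟨numOf (coordX i.1 + Eight.ofN 2) (coordY i.1 + th 1 (Eight.ofN 2) * coordX i.1 + 0),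
          lt_trans (coords_ok.1 _ _).1 (by norm_num)⟩, t0 ⟨i.1, hi⟩, ?_⟩
        rw [e_fin, show e i = pt 1 (ι (coordX i.1)) (ι (coordY i.1)) from if_pos hi, T_pt hS, hth]
        simp only [map_add, map_mul, map_zero, add_zero]
      · exact ⟨⟨64, by norm_num⟩, t1.symm, by rw [e_inf, T_inf]⟩
    · rw [if_neg (by norm_num), Subgroup.smul_def]
      show ∃ j : Fin 65, j.1 = _ ∧ (W : SL(4, F)) • e i = e j
      have e00 : e ⟨0, by norm_num⟩ = suzukiPointZero F := by
        rw [← pt_zero_zero (m := 1)]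
        show pt 1 (ι (coordX 0)) (ι (coordY 0)) = _
        rw [show coordX 0 = 0 from rfl, show coordY 0 = 0 from rfl, map_zero]
      rcases hi with hi | rfl
      · by_cases h0 : i.1 = 0
        · obtain rfl : i = ⟨0, by norm_num⟩ := Fin.ext h0
          exact ⟨⟨64, by norm_num⟩, w1.symm, by rw [e00, e_inf, W_zero]⟩
        · refine ⟨⟨numOf (coordY i.1 * (fO 1 (coordX i.1) (coordY i.1))⁻¹)
            (coordX i.1 * (fO 1 (coordX i.1) (coordY i.1))⁻¹),
            lt_trans (coords_ok.1 _ _).1 (by norm_num)⟩, w0 ⟨i.1, hi⟩ h0, ?_⟩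
          rw [e_fin, show e i = pt 1 (ι (coordX i.1)) (ι (coordY i.1)) from if_pos hi, W_pt hS ?_, hfO]
          · simp only [map_mul, map_inv₀]
          · rintro ⟨hx, hy⟩
            rw [map_eq_zero_iff ι ι.injective] at hx hy
            have := coords_ok.2 ⟨i.1, hi⟩
            rw [hx, hy] at this
            exact h0 (this.symm.trans rfl)
      · exact ⟨⟨0, by norm_num⟩, w2.symm, by rw [e_inf, e00, W_inf]⟩

end CfsgLib.Lie.MultExc.SzEight
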